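import Mathlib.CategoryTheory.Monoidal.Braided.Basic
import Mathlib.CategoryTheory.Monoidal.NaturalTransformation
import Mathlib.CategoryTheory.Groupoid
import Mathlib.CategoryTheory.Equivalence

/-!
# The Picardification of a symmetric monoidal category: syntactic construction
-/

universe v v' u u'

namespace Groth.Agent.PicCat.Picardify

open CategoryTheory MonoidalCategory

/-- Objects of the free Picard category on `A`. -/
inductive Obj (A : Type u) : Type u
  | of (a : A) : Obj A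
  | unit : Obj A
  | tensor (x y : Obj A) : Obj A
  | dual (x : Obj A) : Obj A

variable (A : Type u) [Category.{v} A] [MonoidalCategory A] [SymmetricCategory A]

/-- Words in the generating morphisms. -/
inductive Raw : Obj A → Obj A → Type (max u v)
  | of {a b : A} (f : a ⟶ b) : Raw (.of a) (.of b)
  | id (x : Obj A) : Raw x x
  | comp {x y z : Obj A} (f : Raw x y) (g : Raw y z) : Raw x z
  | inv {x y : Obj A} (f : Raw x y) : Raw y x
  | tensor {x y x' y' : Obj A} (f : Raw x y) (g : Raw x' y') : Raw (x.tensor x') (y.tensor y')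
  | assoc (x y z : Obj A) : Raw ((x.tensor y).tensor z) (x.tensor (y.tensor z))
  | lu (x : Obj A) : Raw (Obj.unit.tensor x) x
  | ru (x : Obj A) : Raw (x.tensor .unit) x
  | braid (x y : Obj A) : Raw (x.tensor y) (y.tensor x)
  | mu (a b : A) : Raw ((Obj.of a).tensor (.of b)) (.of (a ⊗ b))
  | eta : Raw .unit (.of (𝟙_ A))
  | ev (x : Obj A) : Raw (x.tensor x.dual) .unit

variable {A}

open Raw in
/-- The relations. -/
inductive Rel : ∀ {x y : Obj A}, Raw A x y → Raw A x y → Prop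
  | refl {x y} (f : Raw A x y) : Rel f f
  | symm {x y} {f g : Raw A x y} : Rel f g → Rel g f
  | trans {x y} {f g h : Raw A x y} : Rel f g → Rel g h → Rel f h
  | comp_congr {x y z} {f f' : Raw A x y} {g g' : Raw A y z} :
      Rel f f' → Rel g g' → Rel (comp f g) (comp f' g')
  | inv_congr {x y} {f f' : Raw A x y} : Rel f f' → Rel (inv f) (inv f')
  | tensor_congr {x y x' y'} {f f' : Raw A x y} {g g' : Raw A x' y'} :
      Rel f f' → Rel g g' → Rel (Raw.tensor f g) (Raw.tensor f' g')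
  | id_comp {x y} (f : Raw A x y) : Rel (comp (id x) f) f
  | comp_id {x y} (f : Raw A x y) : Rel (comp f (id y)) f
  | comp_assoc {x y z w} (f : Raw A x y) (g : Raw A y z) (h : Raw A z w) :
      Rel (comp (comp f g) h) (comp f (comp g h))
  | inv_comp {x y} (f : Raw A x y) : Rel (comp (inv f) f) (id y)
  | comp_inv {x y} (f : Raw A x y) : Rel (comp f (inv f)) (id x)
  | tensor_id (x y : Obj A) : Rel (Raw.tensor (id x) (id y)) (id (x.tensor y))
  | tensor_comp {x y z x' y' z'} (f : Raw A x y) (g : Raw A y z) (f' : Raw A x' y')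
      (g' : Raw A y' z') :
      Rel (comp (Raw.tensor f f') (Raw.tensor g g')) (Raw.tensor (comp f g) (comp f' g'))
  | assoc_nat {x y z x' y' z'} (f : Raw A x x') (g : Raw A y y') (h : Raw A z z') :
      Rel (comp (Raw.tensor (Raw.tensor f g) h) (assoc x' y' z'))
        (comp (assoc x y z) (Raw.tensor f (Raw.tensor g h)))
  | lu_nat {x y} (f : Raw A x y) :
      Rel (comp (Raw.tensor (id .unit) f) (lu y)) (comp (lu x) f)
  | ru_nat {x y} (f : Raw A x y) :
      Rel (comp (Raw.tensor f (id .unit)) (ru y)) (comp (ru x) f)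
  | pentagon (w x y z : Obj A) :
      Rel (comp (Raw.tensor (assoc w x y) (id z))
          (comp (assoc w (x.tensor y) z) (Raw.tensor (id w) (assoc x y z))))
        (comp (assoc (w.tensor x) y z) (assoc w x (y.tensor z)))
  | triangle (x y : Obj A) :
      Rel (comp (assoc x .unit y) (Raw.tensor (id x) (lu y))) (Raw.tensor (ru x) (id y))
  | braid_nat {x y x' y'} (f : Raw A x y) (g : Raw A x' y') :
      Rel (comp (Raw.tensor f g) (braid y y')) (comp (braid x x') (Raw.tensor g f))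
  | hexagon_forward (x y z : Obj A) :
      Rel (comp (assoc x y z) (comp (braid x (y.tensor z)) (assoc y z x)))
        (comp (Raw.tensor (braid x y) (id z))
          (comp (assoc y x z) (Raw.tensor (id y) (braid x z))))
  | hexagon_reverse (x y z : Obj A) :
      Rel (comp (inv (assoc x y z)) (comp (braid (x.tensor y) z) (inv (assoc z x y))))
        (comp (Raw.tensor (id x) (braid y z))
          (comp (inv (assoc x z y)) (Raw.tensor (braid x z) (id y))))
  | symmetry (x y : Obj A) : Rel (comp (braid x y) (braid y x)) (id (x.tensor y))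
  | of_id (a : A) : Rel (of (𝟙 a)) (id (.of a))
  | of_comp {a b c : A} (f : a ⟶ b) (g : b ⟶ c) : Rel (of (f ≫ g)) (comp (of f) (of g))
  | mu_nat_left {a b : A} (f : a ⟶ b) (c : A) :
      Rel (comp (Raw.tensor (of f) (id (.of c))) (mu b c)) (comp (mu a c) (of (f ▷ c)))
  | mu_nat_right {a b : A} (c : A) (f : a ⟶ b) :
      Rel (comp (Raw.tensor (id (.of c)) (of f)) (mu c b)) (comp (mu c a) (of (c ◁ f)))
  | mu_assoc (a b c : A) :
      Rel (comp (Raw.tensor (mu a b) (id (.of c))) (comp (mu (a ⊗ b) c) (of (α_ a b c).hom)))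
        (comp (assoc (.of a) (.of b) (.of c))
          (comp (Raw.tensor (id (.of a)) (mu b c)) (mu a (b ⊗ c))))
  | mu_lu (a : A) :
      Rel (lu (.of a))
        (comp (Raw.tensor eta (id (.of a))) (comp (mu (𝟙_ A) a) (of (λ_ a).hom)))
  | mu_ru (a : A) :
      Rel (ru (.of a))
        (comp (Raw.tensor (id (.of a)) eta) (comp (mu a (𝟙_ A)) (of (ρ_ a).hom)))
  | mu_braid (a b : A) :
      Rel (comp (mu a b) (of (β_ a b).hom)) (comp (braid (.of a) (.of b)) (mu b a))

/-- Morphisms of the free Picard category. -/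
def Hom (x y : Obj A) : Type (max u v) :=
  Quotient (⟨Rel, ⟨Rel.refl, Rel.symm, Rel.trans⟩⟩ : Setoid (Raw A x y))

/-- The class of a word. -/
def mk {x y : Obj A} (f : Raw A x y) : Hom x y := Quotient.mk _ f

lemma sound {x y : Obj A} {f g : Raw A x y} (h : Rel f g) : mk f = mk g :=
  Quotient.sound h

instance category : Category.{max u v} (Obj A) where
  Hom := Hom
  id x := mk (.id x)
  comp := Quotient.map₂ Raw.comp fun _ _ h _ _ h' => Rel.comp_congr h h'
  id_comp := by rintro _ _ ⟨f⟩; exact sound (.id_comp f)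
  comp_id := by rintro _ _ ⟨f⟩; exact sound (.comp_id f)
  assoc := by rintro _ _ _ _ ⟨f⟩ ⟨g⟩ ⟨h⟩; exact sound (.comp_assoc f g h)

/-- The isomorphism given by a word. -/
def mkIso {x y : Obj A} (f : Raw A x y) : x ≅ y where
  hom := mk f
  inv := mk (.inv f)
  hom_inv_id := sound (.comp_inv f)
  inv_hom_id := sound (.inv_comp f)

instance : IsGroupoid (Obj A) where
  all_isIso := by rintro _ _ ⟨f⟩; exact (mkIso f).isIso_hom

/-- Tensor of morphisms. -/
def tensorMap {x y x' y' : Obj A} : Hom x y → Hom x' y' → Hom (x.tensor x') (y.tensor y') :=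
  Quotient.map₂ Raw.tensor fun _ _ h _ _ h' => Rel.tensor_congr h h'

instance monoidalStruct : MonoidalCategoryStruct (Obj A) where
  tensorObj := Obj.tensor
  whiskerLeft x _ _ f := tensorMap (mk (.id x)) f
  whiskerRight f y := tensorMap f (mk (.id y))
  tensorHom f g := tensorMap f g
  tensorUnit := .unit
  associator x y z := mkIso (.assoc x y z)
  leftUnitor x := mkIso (.lu x)
  rightUnitor x := mkIso (.ru x)

instance monoidal : MonoidalCategory (Obj A) :=
  MonoidalCategory.ofTensorHom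
    (id_tensorHom_id := fun x y => sound (.tensor_id x y))
    (id_tensorHom := fun _ _ _ _ => rfl)
    (tensorHom_id := fun _ _ => rfl)
    (tensorHom_comp_tensorHom := by
      rintro _ _ _ _ _ _ ⟨f⟩ ⟨f'⟩ ⟨g⟩ ⟨g'⟩; exact sound (.tensor_comp f g f' g'))
    (associator_naturality := by
      rintro _ _ _ _ _ _ ⟨f⟩ ⟨g⟩ ⟨h⟩; exact sound (.assoc_nat f g h))
    (leftUnitor_naturality := by rintro _ _ ⟨f⟩; exact sound (.lu_nat f))
    (rightUnitor_naturality := by rintro _ _ ⟨f⟩; exact sound (.ru_nat f))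
    (pentagon := fun w x y z => sound (.pentagon w x y z))
    (triangle := fun x y => sound (.triangle x y))

instance symmetric : SymmetricCategory (Obj A) where
  braiding x y := mkIso (.braid x y)
  braiding_naturality_right x _ _ f := by
    obtain ⟨f⟩ := f; exact sound (.braid_nat (.id x) f)
  braiding_naturality_left f z := by
    obtain ⟨f⟩ := f; exact sound (.braid_nat f (.id z))
  hexagon_forward x y z := sound (.hexagon_forward x y z)
  hexagon_reverse x y z := sound (.hexagon_reverse x y z)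
  symmetry x y := sound (.symmetry x y)

lemma mk_comp {x y z : Obj A} (f : Raw A x y) (g : Raw A y z) :
    (mk (Raw.comp f g) : x ⟶ z) = @CategoryStruct.comp (Obj A) _ x y z (mk f) (mk g) :=
  rfl

lemma mk_tensor {x y x' y' : Obj A} (f : Raw A x y) (g : Raw A x' y') :
    (mk (Raw.tensor f g) : x ⊗ x' ⟶ y ⊗ y') =
      @MonoidalCategoryStruct.tensorHom (Obj A) _ _ x y x' y' (mk f) (mk g) :=
  rfl

/-- The inclusion of `A`. -/
def incl : A ⥤ Obj A where
  obj := Obj.of
  map f := mk (.of f)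
  map_id a := sound (.of_id a)
  map_comp f g := sound (.of_comp f g)

instance : (incl (A := A)).LaxBraided where
  ε := mk .eta
  μ a b := mk (.mu a b)
  μ_natural_left f c := sound (.mu_nat_left f c)
  μ_natural_right c f := sound (.mu_nat_right c f)
  associativity a b c := sound (.mu_assoc a b c)
  left_unitality a := sound (.mu_lu a)
  right_unitality a := sound (.mu_ru a)
  braided a b := sound (.mu_braid a b)

lemma tensorLeft_isEquivalence (x : Obj A) : (tensorLeft x).IsEquivalence :=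
  (CategoryTheory.Equivalence.mk (tensorLeft x) (tensorLeft x.dual)
    (((tensorLeftTensor x.dual x).symm ≪≫
      (curriedTensor (Obj A)).mapIso
        (mkIso (.braid x.dual x) ≪≫ mkIso (.ev x) : x.dual ⊗ x ≅ 𝟙_ (Obj A)) ≪≫
      leftUnitorNatIso (Obj A)).symm)
    ((tensorLeftTensor x x.dual).symm ≪≫
      (curriedTensor (Obj A)).mapIso (mkIso (.ev x) : x ⊗ x.dual ≅ 𝟙_ (Obj A)) ≪≫
      leftUnitorNatIso (Obj A))).isEquivalence_functor

lemma tensorRight_isEquivalence (x : Obj A) : (tensorRight x).IsEquivalence :=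
  have := tensorLeft_isEquivalence x
  Functor.isEquivalence_of_iso (BraidedCategory.tensorLeftIsoTensorRight x)

/-! ### The universal property -/

variable {P : Type u'} [Category.{v'} P] [MonoidalCategory P] [SymmetricCategory P] [IsGroupoid P]

section Eval

variable (hP : ∀ X : P, (tensorLeft X).IsEquivalence) (Φ : A ⥤ P) [Φ.LaxBraided]

/-- A chosen inverse of an object. -/
noncomputable def dualObj (X : P) : P :=
  haveI := hP X
  (tensorLeft X).objPreimage (𝟙_ P)

/-- The evaluation isomorphism. -/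
noncomputable def dualIso (X : P) : X ⊗ dualObj hP X ≅ 𝟙_ P :=
  haveI := hP X
  (tensorLeft X).objObjPreimageIso (𝟙_ P)

/-- Interpretation of objects. -/
noncomputable def evalObj : Obj A → P
  | .of a => Φ.obj a
  | .unit => 𝟙_ P
  | .tensor x y => evalObj x ⊗ evalObj y
  | .dual x => dualObj hP (evalObj x)

open Functor.LaxMonoidal in
/-- Interpretation of words. -/
noncomputable def evalRaw : ∀ {x y : Obj A}, Raw A x y → (evalObj hP Φ x ⟶ evalObj hP Φ y)
  | _, _, .of f => Φ.map f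
  | _, _, .id _ => 𝟙 _
  | _, _, .comp f g => evalRaw f ≫ evalRaw g
  | _, _, .inv f => CategoryTheory.inv (evalRaw f)
  | _, _, .tensor f g => evalRaw f ⊗ₘ evalRaw g
  | _, _, .assoc _ _ _ => (α_ _ _ _).hom
  | _, _, .lu _ => (λ_ _).hom
  | _, _, .ru _ => (ρ_ _).hom
  | _, _, .braid _ _ => (β_ _ _).hom
  | _, _, .mu a b => μ Φ a b
  | _, _, .eta => ε Φ
  | _, _, .ev x => (dualIso hP (evalObj hP Φ x)).hom

open Functor.LaxMonoidal in
lemma evalRaw_rel {x y : Obj A} {f g : Raw A x y} (h : Rel f g) :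
    evalRaw hP Φ f = evalRaw hP Φ g := by
  induction h with
  | refl => rfl
  | symm _ ih => exact ih.symm
  | trans _ _ ih ih' => exact ih.trans ih'
  | comp_congr _ _ ih ih' => simp [evalRaw, ih, ih']
  | inv_congr _ ih => simp [evalRaw, ih]
  | tensor_congr _ _ ih ih' => exact congrArg₂ (fun a b => a ⊗ₘ b) ih ih'
  | assoc_nat => simp [evalRaw, evalObj]
  | lu_nat => simp [evalRaw, evalObj]
  | ru_nat => simp [evalRaw, evalObj]
  | pentagon => simp [evalRaw, evalObj]
  | triangle => simp [evalRaw, evalObj]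
  | braid_nat => simp [evalRaw, evalObj, BraidedCategory.braiding_naturality]
  | hexagon_forward x y z =>
    simp [evalRaw, evalObj]
  | hexagon_reverse x y z =>
    simp [evalRaw, evalObj]
  | symmetry => simp [evalRaw, evalObj]
  | of_comp => simp [evalRaw, evalObj]
  | mu_nat_left f c => simp [evalRaw, evalObj, μ_natural_left]
  | mu_nat_right c f => simp [evalRaw, evalObj, μ_natural_right]
  | mu_assoc a b c => simp [evalRaw, evalObj, associativity]
  | mu_lu a => simp [evalRaw, evalObj, left_unitality Φ a]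
  | mu_ru a => simp [evalRaw, evalObj, right_unitality Φ a]
  | mu_braid a b => simp [evalRaw, evalObj, Functor.LaxBraided.braided]
  | _ => simp [evalRaw, evalObj]

/-- The extension of `Φ`. -/
noncomputable def eval : Obj A ⥤ P where
  obj := evalObj hP Φ
  map := Quotient.lift (evalRaw hP Φ) fun _ _ h => evalRaw_rel hP Φ h
  map_id _ := rfl
  map_comp := by rintro _ _ _ ⟨f⟩ ⟨g⟩; rfl

noncomputable instance : (eval hP Φ).LaxBraided where
  ε := 𝟙 (𝟙_ P)
  μ x y := 𝟙 (evalObj hP Φ x ⊗ evalObj hP Φ y)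
  μ_natural_left := by
    rintro x y ⟨f⟩ z
    change evalRaw hP Φ f ▷ evalObj hP Φ z ≫ 𝟙 (evalObj hP Φ y ⊗ evalObj hP Φ z) =
      𝟙 (evalObj hP Φ x ⊗ evalObj hP Φ z) ≫ (evalRaw hP Φ f ⊗ₘ 𝟙 (evalObj hP Φ z))
    simp
  μ_natural_right := by
    rintro x y z ⟨f⟩
    change evalObj hP Φ z ◁ evalRaw hP Φ f ≫ 𝟙 (evalObj hP Φ z ⊗ evalObj hP Φ y) =
      𝟙 (evalObj hP Φ z ⊗ evalObj hP Φ x) ≫ (𝟙 (evalObj hP Φ z) ⊗ₘ evalRaw hP Φ f)
    simp
  associativity x y z := by
    change (𝟙 (evalObj hP Φ x ⊗ evalObj hP Φ y)) ▷ evalObj hP Φ z ≫ 𝟙 _ ≫ (α_ _ _ _).hom =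
      (α_ _ _ _).hom ≫ evalObj hP Φ x ◁ (𝟙 (evalObj hP Φ y ⊗ evalObj hP Φ z)) ≫ 𝟙 _
    simp
  left_unitality x := by
    change (λ_ (evalObj hP Φ x)).hom =
      (𝟙 (𝟙_ P)) ▷ evalObj hP Φ x ≫ 𝟙 _ ≫ (λ_ (evalObj hP Φ x)).hom
    simp
  right_unitality x := by
    change (ρ_ (evalObj hP Φ x)).hom =
      evalObj hP Φ x ◁ (𝟙 (𝟙_ P)) ≫ 𝟙 _ ≫ (ρ_ (evalObj hP Φ x)).hom
    simp
  braided x y := by
    change 𝟙 _ ≫ (β_ (evalObj hP Φ x) (evalObj hP Φ y)).hom =
      (β_ (evalObj hP Φ x) (evalObj hP Φ y)).hom ≫ 𝟙 _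
    simp

/-- The comparison isomorphism. -/
noncomputable def evalIncl : incl ⋙ eval hP Φ ≅ Φ :=
  NatIso.ofComponents (fun a => Iso.refl (Φ.obj a)) fun f => by
    change Φ.map f ≫ 𝟙 _ = 𝟙 _ ≫ Φ.map f
    simp

open Functor.LaxMonoidal in
lemma evalIncl_isMonoidal : NatTrans.IsMonoidal (evalIncl hP Φ).hom where
  unit := by
    change (𝟙 (𝟙_ P) ≫ ε Φ) ≫ 𝟙 _ = ε Φ
    simp
  tensor a b := by
    change (𝟙 (Φ.obj a ⊗ Φ.obj b) ≫ μ Φ a b) ≫ 𝟙 _ = (𝟙 (Φ.obj a) ⊗ₘ 𝟙 (Φ.obj b)) ≫ μ Φ a b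
    simp

end Eval

section Extend

variable (hP : ∀ X : P, (tensorLeft X).IsEquivalence) {Ψ Ψ' : Obj A ⥤ P} [Ψ.LaxBraided]
  [Ψ'.LaxBraided] (τ : incl ⋙ Ψ ⟶ incl ⋙ Ψ')

open Functor.LaxMonoidal

/-- The components of the extension of `τ`. -/
noncomputable def extendApp : ∀ x : Obj A, Ψ.obj x ⟶ Ψ'.obj x
  | .of a => τ.app a
  | .unit => CategoryTheory.inv (ε Ψ) ≫ ε Ψ'
  | .tensor x y => CategoryTheory.inv (μ Ψ x y) ≫ (extendApp x ⊗ₘ extendApp y) ≫ μ Ψ' x y
  | .dual x =>
    have := hP (Ψ.obj x)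
    (tensorLeft (Ψ.obj x)).preimage (X := Ψ.obj x.dual) (Y := Ψ'.obj x.dual)
      (μ Ψ x x.dual ≫ Ψ.map (mk (.ev x)) ≫ CategoryTheory.inv (ε Ψ) ≫ ε Ψ' ≫
        CategoryTheory.inv (Ψ'.map (mk (.ev x))) ≫ CategoryTheory.inv (μ Ψ' x x.dual) ≫
        CategoryTheory.inv (extendApp x ▷ Ψ'.obj x.dual))

lemma μ_extendApp (x y : Obj A) :
    μ Ψ x y ≫ extendApp hP τ (x ⊗ y) =
      (extendApp hP τ x ⊗ₘ extendApp hP τ y) ≫ μ Ψ' x y := by
  exact IsIso.hom_inv_id_assoc _ _

lemma ε_extendApp : ε Ψ ≫ extendApp hP τ (𝟙_ (Obj A)) = ε Ψ' :=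
  IsIso.hom_inv_id_assoc _ _

lemma whiskerLeft_extendApp_dual (x : Obj A) :
    Ψ.obj x ◁ extendApp hP τ x.dual =
      μ Ψ x x.dual ≫ Ψ.map (mk (.ev x)) ≫ CategoryTheory.inv (ε Ψ) ≫ ε Ψ' ≫
        CategoryTheory.inv (Ψ'.map (mk (.ev x))) ≫ CategoryTheory.inv (μ Ψ' x x.dual) ≫
        CategoryTheory.inv (extendApp hP τ x ▷ Ψ'.obj x.dual) := by
  haveI := hP (Ψ.obj x)
  exact (tensorLeft (Ψ.obj x)).map_preimage _

variable (hτ : NatTrans.IsMonoidal τ)

include hτ in
lemma extendApp_naturality {x y : Obj A} (r : Raw A x y) :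
    Ψ.map (mk r) ≫ extendApp hP τ y = extendApp hP τ x ≫ Ψ'.map (mk r) := by
  induction r with
  | of f => exact τ.naturality f
  | id x =>
    rw [show mk (Raw.id x) = 𝟙 x from rfl]
    simp
  | comp f g ih ih' =>
    rw [mk_comp, Functor.map_comp, Functor.map_comp,
      Category.assoc, ih', reassoc_of% ih]
  | @inv x y f ih =>
    rw [← cancel_epi (Ψ.map (mk f)), reassoc_of% ih, ← Functor.map_comp_assoc, ← Functor.map_comp]
    rw [show mk f ≫ mk (Raw.inv f) = 𝟙 x from sound (.comp_inv f)]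
    simp
  | @tensor x y x' y' f g ih ih' =>
    rw [mk_tensor, ← cancel_epi (μ Ψ x x'),
      ← μ_natural_assoc]
    change _ ≫ μ Ψ y y' ≫ extendApp hP τ (y ⊗ y') = μ Ψ x x' ≫ extendApp hP τ (x ⊗ x') ≫ _
    rw [μ_extendApp, reassoc_of% (μ_extendApp hP τ x x'), ← μ_natural,
      tensorHom_comp_tensorHom_assoc, tensorHom_comp_tensorHom_assoc, ih, ih']
  | assoc x y z =>
    change Ψ.map (α_ x y z).hom ≫ extendApp hP τ (x ⊗ (y ⊗ z)) =
      extendApp hP τ ((x ⊗ y) ⊗ z) ≫ Ψ'.map (α_ x y z).hom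
    rw [← cancel_epi (μ Ψ (x ⊗ y) z), ← cancel_epi (μ Ψ x y ▷ Ψ.obj z), associativity_assoc,
      μ_extendApp, reassoc_of% (μ_extendApp hP τ (x ⊗ y) z), ← tensorHom_id,
      tensorHom_comp_tensorHom_assoc, ← id_tensorHom, tensorHom_comp_tensorHom_assoc,
      μ_extendApp, μ_extendApp, Category.id_comp, Category.id_comp,
      ← Category.comp_id (extendApp hP τ z), ← tensorHom_comp_tensorHom_assoc, tensorHom_id,
      associativity, associator_naturality_assoc, ← id_tensorHom,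
      tensorHom_comp_tensorHom_assoc, Category.comp_id]
    simp
  | lu x =>
    change Ψ.map (λ_ x).hom ≫ extendApp hP τ x = extendApp hP τ (𝟙_ _ ⊗ x) ≫ Ψ'.map (λ_ x).hom
    rw [← cancel_epi (μ Ψ (𝟙_ (Obj A)) x), ← cancel_epi (ε Ψ ▷ Ψ.obj x),
      reassoc_of% (μ_extendApp hP τ (𝟙_ (Obj A)) x), ← reassoc_of% (left_unitality Ψ x),
      ← tensorHom_id, tensorHom_comp_tensorHom_assoc, ε_extendApp, Category.id_comp,
      MonoidalCategory.tensorHom_def'_assoc, ← left_unitality Ψ' x, leftUnitor_naturality]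
  | ru x =>
    change Ψ.map (ρ_ x).hom ≫ extendApp hP τ x = extendApp hP τ (x ⊗ 𝟙_ _) ≫ Ψ'.map (ρ_ x).hom
    rw [← cancel_epi (μ Ψ x (𝟙_ (Obj A))), ← cancel_epi (Ψ.obj x ◁ ε Ψ),
      reassoc_of% (μ_extendApp hP τ x (𝟙_ (Obj A))), ← reassoc_of% (right_unitality Ψ x),
      ← id_tensorHom, tensorHom_comp_tensorHom_assoc, ε_extendApp, Category.id_comp,
      MonoidalCategory.tensorHom_def_assoc, ← right_unitality Ψ' x, rightUnitor_naturality]
  | braid x y =>
    change Ψ.map (β_ x y).hom ≫ extendApp hP τ (y ⊗ x) =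
      extendApp hP τ (x ⊗ y) ≫ Ψ'.map (β_ x y).hom
    rw [← cancel_epi (μ Ψ x y), Functor.LaxBraided.braided_assoc, μ_extendApp,
      reassoc_of% (μ_extendApp hP τ x y), Functor.LaxBraided.braided,
      BraidedCategory.braiding_naturality_assoc]
  | mu a b =>
    change Ψ.map (μ incl a b) ≫ τ.app (a ⊗ b) =
      extendApp hP τ ((incl.obj a : Obj A) ⊗ incl.obj b) ≫ Ψ'.map (μ incl a b)
    rw [← cancel_epi (μ Ψ (incl.obj a) (incl.obj b)), reassoc_of% (μ_extendApp hP τ _ _)]
    have := hτ.tensor a b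
    rw [Functor.LaxMonoidal.comp_μ, Functor.LaxMonoidal.comp_μ, Category.assoc] at this
    exact this
  | eta =>
    change Ψ.map (ε incl) ≫ τ.app (𝟙_ A) = extendApp hP τ (𝟙_ _) ≫ Ψ'.map (ε incl)
    rw [← cancel_epi (ε Ψ), reassoc_of% (ε_extendApp hP τ)]
    have := hτ.unit
    rw [Functor.LaxMonoidal.comp_ε, Functor.LaxMonoidal.comp_ε, Category.assoc] at this
    exact this
  | ev x =>
    change Ψ.map (mk (.ev x)) ≫ extendApp hP τ (𝟙_ _) =
      extendApp hP τ (x ⊗ x.dual) ≫ Ψ'.map (mk (.ev x))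
    rw [← cancel_epi (μ Ψ x x.dual), reassoc_of% (μ_extendApp hP τ x x.dual),
      MonoidalCategory.tensorHom_def'_assoc, whiskerLeft_extendApp_dual]
    simp
    rfl

/-- The extension of `τ`. -/
noncomputable def extend : Ψ ⟶ Ψ' where
  app := extendApp hP τ
  naturality := by rintro x y ⟨r⟩; exact extendApp_naturality hP τ hτ r

lemma extend_isMonoidal : NatTrans.IsMonoidal (extend hP τ hτ) where
  unit := ε_extendApp hP τ
  tensor x y := μ_extendApp hP τ x y

lemma whiskerLeft_extend : Functor.whiskerLeft incl (extend hP τ hτ) = τ := by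
  ext a; rfl

end Extend

open Functor.LaxMonoidal in
lemma extend_unique (hP : ∀ X : P, (tensorLeft X).IsEquivalence) {Ψ Ψ' : Obj A ⥤ P}
    [Ψ.LaxBraided] [Ψ'.LaxBraided] (θ θ' : Ψ ⟶ Ψ') [NatTrans.IsMonoidal θ]
    [NatTrans.IsMonoidal θ']
    (h : Functor.whiskerLeft incl θ = Functor.whiskerLeft incl θ') : θ = θ' := by
  ext x
  induction x with
  | of a => exact congr_app h a
  | unit =>
    exact (cancel_epi (ε Ψ)).1
      ((NatTrans.IsMonoidal.unit (τ := θ)).trans (NatTrans.IsMonoidal.unit (τ := θ')).symm)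
  | tensor x y ihx ihy =>
    refine (cancel_epi (μ Ψ x y)).1 ((NatTrans.IsMonoidal.tensor (τ := θ) x y).trans
      (Eq.trans ?_ (NatTrans.IsMonoidal.tensor (τ := θ') x y).symm))
    rw [ihx, ihy]
  | dual x ih =>
    have := hP (Ψ.obj x)
    refine (tensorLeft (Ψ.obj x)).map_injective ?_
    change Ψ.obj x ◁ θ.app x.dual = Ψ.obj x ◁ θ'.app x.dual
    have hu : θ.app (𝟙_ (Obj A)) = θ'.app (𝟙_ _) :=
      (cancel_epi (ε Ψ)).1
        ((NatTrans.IsMonoidal.unit (τ := θ)).trans (NatTrans.IsMonoidal.unit (τ := θ')).symm)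
    have ht : θ.app (x ⊗ x.dual) = θ'.app (x ⊗ x.dual) := by
      rw [← cancel_mono (Ψ'.map (mk (.ev x) : x ⊗ x.dual ⟶ 𝟙_ _)), ← θ.naturality,
        ← θ'.naturality, hu]
    have := (NatTrans.IsMonoidal.tensor (τ := θ) x x.dual).symm.trans
      ((congrArg (μ Ψ x x.dual ≫ ·) ht).trans (NatTrans.IsMonoidal.tensor (τ := θ') x x.dual))
    rw [cancel_mono, MonoidalCategory.tensorHom_def', MonoidalCategory.tensorHom_def', ih,
      cancel_mono] at this
    exact this

end Groth.Agent.PicCat.Picardify
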