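import Mathlib.CategoryTheory.Monoidal.Braided.Basic
import Mathlib.CategoryTheory.Monoidal.NaturalTransformation
import Mathlib.CategoryTheory.Monoidal.Skeleton
import Mathlib.CategoryTheory.Groupoid
import Mathlib.CategoryTheory.Endomorphism

/-!
# Translating endomorphisms of the unit to endomorphisms of an object
-/

universe v v' u u'

namespace Groth.Agent.PicCat

open CategoryTheory MonoidalCategory

variable {C : Type u} [Category.{v} C] [MonoidalCategory C]

/-- the action of an endomorphism of the unit on an object -/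
def act (X : C) (φ : 𝟙_ C ⟶ 𝟙_ C) : X ⟶ X := (λ_ X).inv ≫ φ ▷ X ≫ (λ_ X).hom

lemma act_bijective (X : C) (h : (tensorRight X).IsEquivalence) : Function.Bijective (act X) := by
  have h' : Function.Bijective (fun φ : 𝟙_ C ⟶ 𝟙_ C => φ ▷ X) :=
    (Functor.FullyFaithful.ofFullyFaithful (tensorRight X)).map_bijective _ _
  have h'' : Function.Bijective (fun f : 𝟙_ C ⊗ X ⟶ 𝟙_ C ⊗ X => (λ_ X).inv ≫ f ≫ (λ_ X).hom) := by
    refine Function.bijective_iff_has_inverse.2 ⟨fun g => (λ_ X).hom ≫ g ≫ (λ_ X).inv, ?_, ?_⟩ <;>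
      intro f <;> simp
  exact h''.comp h'

lemma act_naturality {X Y : C} (g : X ⟶ Y) (φ : 𝟙_ C ⟶ 𝟙_ C) :
    act X φ ≫ g = g ≫ act Y φ := by
  simp only [act, Category.assoc]
  rw [← leftUnitor_naturality, ← whisker_exchange_assoc, leftUnitor_inv_naturality_assoc]

lemma act_id (X : C) : act X (𝟙 _) = 𝟙 X := by simp [act]

lemma act_comp (X : C) (φ ψ : 𝟙_ C ⟶ 𝟙_ C) : act X (φ ≫ ψ) = act X φ ≫ act X ψ := by
  simp [act]

lemma act_whiskerRight (X Y : C) (φ : 𝟙_ C ⟶ 𝟙_ C) : act X φ ▷ Y = act (X ⊗ Y) φ := by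
  simp only [act]
  monoidal

section Braided

variable [BraidedCategory C]

lemma act_eq_right (X : C) (φ : 𝟙_ C ⟶ 𝟙_ C) :
    act X φ = (ρ_ X).inv ≫ X ◁ φ ≫ (ρ_ X).hom := by
  rw [act, ← braiding_rightUnitor, BraidedCategory.braiding_naturality_left_assoc,
    leftUnitor_inv_braiding_assoc]

lemma act_whiskerLeft (X Y : C) (φ : 𝟙_ C ⟶ 𝟙_ C) : X ◁ act Y φ = act (X ⊗ Y) φ := by
  rw [← act_whiskerRight, act_eq_right X]
  simp only [act]
  monoidal

lemma act_tensor (X Y : C) (φ ψ : 𝟙_ C ⟶ 𝟙_ C) :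
    act X φ ⊗ₘ act Y ψ = act (X ⊗ Y) (ψ ≫ φ) := by
  rw [MonoidalCategory.tensorHom_def', act_whiskerLeft, act_whiskerRight, act_comp]

end Braided

section Functor

variable {D : Type u'} [Category.{v'} D] [MonoidalCategory D] [IsGroupoid D]
  (F : C ⥤ D) [F.LaxMonoidal]

open Functor.LaxMonoidal in
lemma map_act (X : C) (φ : 𝟙_ C ⟶ 𝟙_ C) :
    F.map (act X φ) = act (F.obj X) (ε F ≫ F.map φ ≫ CategoryTheory.inv (ε F)) := by
  symm
  simp only [act]
  rw [left_unitality F X]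
  simp only [comp_whiskerRight, Category.assoc]
  rw [← comp_whiskerRight_assoc (CategoryTheory.inv (ε F)), IsIso.inv_hom_id, id_whiskerRight,
    Category.id_comp]
  rw [μ_natural_left_assoc, ← Functor.map_comp]
  have h : (λ_ (F.obj X)).inv ≫ ε F ▷ F.obj X ≫ μ F (𝟙_ C) X = F.map (λ_ X).inv :=
    (left_unitality_inv F X)
  rw [reassoc_of% h, ← Functor.map_comp]

end Functor

end Groth.Agent.PicCat
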